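import Mathlib
import Cfsg.Agent.Lib.Lead.LWGlue

/-!
# M. Hall's theorem (S4221): the concrete end

(author: helper5; plan by lead)  `G ≤ Perm α` is `4`-transitive and the stabiliser of an injective
`4`-tuple has odd order.  Given the abstract theorem (`N ≥ 7` forces `N = 7` with `3 ∣ h`, or `N = 11`
with `h` a cube), conclude S4221.
-/

set_option autoImplicit false
set_option linter.unusedVariables false
set_option linter.unusedSectionVars false
set_option linter.style.haveILetI false
set_option linter.unusedSimpArgs false
set_option maxHeartbeats 1000000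

namespace Cfsg.Agent.Lib.Helper5.Hall4

open MulAction SubMulAction Cfsg.Agent.Lib.Lead.LWGlue

variable {α : Type*} [Fintype α] [DecidableEq α] (G : Subgroup (Equiv.Perm α))

/-- a subgroup of `Perm α` of order `n!/2` is the alternating group -/
theorem alt_of_card (hG : 2 * Nat.card G = (Fintype.card α).factorial) :
    G = alternatingGroup α := by
  apply Equiv.Perm.eq_alternatingGroup_of_index_eq_two
  have h1 := G.index_mul_card
  rw [Nat.card_eq_fintype_card (α := Equiv.Perm α), Fintype.card_perm, ← hG] at h1
  have hpos : 0 < Nat.card G := Nat.card_pos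
  exact Nat.eq_of_mul_eq_mul_right hpos h1

/-- a subgroup of `Perm α` of order `n!` is everything -/
theorem top_of_card (hG : Nat.card G = (Fintype.card α).factorial) : G = ⊤ := by
  apply Subgroup.eq_top_of_card_eq
  rw [hG, Nat.card_eq_fintype_card (α := Equiv.Perm α), Fintype.card_perm]

/-- a permutation group acts faithfully -/
theorem faith (g : G) (hg : ∀ a : α, g • a = a) : g = 1 := by
  apply Subtype.ext
  ext a
  exact hg a

/-- no involution of `G` fixes four points -/
theorem no_invol (hG : IsMultiplyPretransitive G α 4) (x : Fin 4 ↪ α)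
    (hodd : Odd (Nat.card (stabilizer G x)))
    (g : G) (x' : Fin 4 ↪ α) (hfix : ∀ i, g • x' i = x' i) (hg2 : g ^ 2 = 1) : g = 1 := by
  obtain ⟨k, hk⟩ := @MulAction.exists_smul_eq G (Fin 4 ↪ α) _ hG x' x
  have hki : ∀ i, k • x' i = x i := fun i => DFunLike.congr_fun hk i
  have hmem : k * g * k⁻¹ ∈ stabilizer G x := by
    rw [mem_stabilizer_iff]
    ext i
    show (k * g * k⁻¹) • x i = x i
    rw [← hki i, mul_smul, mul_smul, inv_smul_smul, hfix i]
  have h1 : (⟨k * g * k⁻¹, hmem⟩ : stabilizer G x) = 1 := by
    apply eq_one_of_sq_of_odd_card hodd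
    apply Subtype.ext
    rw [Subgroup.coe_pow, Subgroup.coe_one]
    show (k * g * k⁻¹) ^ 2 = 1
    rw [conj_pow, hg2]
    group
  have h2 : k * g * k⁻¹ = 1 := congrArg Subtype.val h1
  have h3 := congrArg (fun t => k⁻¹ * t * k) h2
  simpa [mul_assoc] using h3

/-- the subtype used in the abstract theorem has the cardinality of the stabiliser -/
theorem card_subtype_eq (x : Fin 4 ↪ α) :
    Nat.card {g : G // ∀ i, g • x i = x i} = Nat.card (stabilizer G x) := by
  apply Nat.card_congr
  apply Equiv.subtypeEquivRight
  intro g
  rw [mem_stabilizer_iff, DFunLike.ext_iff]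
  exact Iff.rfl

theorem cube_aux : ∀ a : ℕ, a ≤ 17 → a ^ 3 ∣ 5040 → a ^ 3 % 2 = 1 → a = 1 := by
  decide

/-- **The concrete end of M. Hall's theorem.** -/
theorem hall_end (hG : IsMultiplyPretransitive G α 4) (x : Fin 4 ↪ α)
    (hodd : Odd (Nat.card (stabilizer G x)))
    (hmain : 7 ≤ Fintype.card α →
      (Fintype.card α = 7 ∧ 3 ∣ Nat.card {g : G // ∀ i, g • x i = x i}) ∨
      (Fintype.card α = 11 ∧ ∃ a : ℕ, Nat.card {g : G // ∀ i, g • x i = x i} = a ^ 3)) :
    ((Fintype.card α = 4 ∨ Fintype.card α = 5) ∧ G = ⊤) ∨
    ((Fintype.card α = 6 ∨ Fintype.card α = 7) ∧ G = alternatingGroup α) ∨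
    (Fintype.card α = 11 ∧ Nat.card G = 7920) := by
  classical
  have hN4 : 4 ≤ Fintype.card α := by
    have := Fintype.card_le_of_embedding x
    simpa using this
  have hidx0 : (stabilizer G x).index = Nat.card (Fin 4 ↪ α) :=
    @MulAction.index_stabilizer_of_transitive G _ _ _ x hG
  have hidx : (stabilizer G x).index = (Fintype.card α).descFactorial 4 := by
    rw [hidx0, Nat.card_eq_fintype_card, Fintype.card_embedding_eq, Fintype.card_fin]
  have hcardG : Nat.card G = (Fintype.card α).descFactorial 4 * Nat.card (stabilizer G x) := by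
    rw [← hidx, mul_comm, Subgroup.card_mul_index]
  have hdvd : Nat.card (stabilizer G x) ∣ (Fintype.card α - 4).factorial := by
    obtain ⟨s, hsdef⟩ : ∃ s : Finset α, s = Finset.univ.map x := ⟨_, rfl⟩
    have hs : s.card = 4 := by
      rw [hsdef, Finset.card_map, Finset.card_univ, Fintype.card_fin]
    have heq : stabilizer G x = fixingSubgroup G (s : Set α) := by
      ext g
      rw [mem_stabilizer_iff, mem_fixingSubgroup_iff, DFunLike.ext_iff]
      constructor
      · intro h a ha
        rw [hsdef] at ha
        simp only [Finset.coe_map, Finset.coe_univ, Set.image_univ, Set.mem_range] at ha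
        obtain ⟨i, rfl⟩ := ha
        exact h i
      · intro h i
        exact h (x i) (by rw [hsdef]; simp)
    rw [heq]
    haveI := faithful_ofFixingSubgroup G s
    have hinj : Function.Injective (MulAction.toPermHom (fixingSubgroup G (s : Set α))
        (ofFixingSubgroup G (s : Set α))) := MulAction.toPerm_injective
    have := Subgroup.card_dvd_of_injective _ hinj
    rwa [Nat.card_perm, card_ofFixingSubgroup, hs] at this
  have hoddh := hodd
  rw [Nat.odd_iff] at hoddh
  have hhpos : 0 < Nat.card (stabilizer G x) := Nat.card_pos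
  by_cases h7 : 7 ≤ Fintype.card α
  · rcases hmain h7 with ⟨hN, h3⟩ | ⟨hN, a, ha⟩
    · -- `N = 7`
      right; left
      refine ⟨Or.inr hN, ?_⟩
      rw [card_subtype_eq] at h3
      rw [hN] at hdvd hcardG
      have h6 : (7 - 4).factorial = 6 := by decide
      rw [h6] at hdvd
      have hle : Nat.card (stabilizer G x) ≤ 6 := Nat.le_of_dvd (by norm_num) hdvd
      have hh3 : Nat.card (stabilizer G x) = 3 := by
        generalize Nat.card (stabilizer G x) = h at *
        interval_cases h <;> omega
      rw [hh3] at hcardG
      apply alt_of_card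
      rw [hcardG, hN]
      decide
    · -- `N = 11`
      right; right
      refine ⟨hN, ?_⟩
      rw [card_subtype_eq] at ha
      rw [hN] at hdvd hcardG
      have h5040 : (11 - 4).factorial = 5040 := by decide
      rw [h5040, ha] at hdvd
      rw [ha] at hoddh
      have ha17 : a ≤ 17 := by
        by_contra hc
        push Not at hc
        have h18 : 18 ^ 3 ≤ a ^ 3 := Nat.pow_le_pow_left (by omega) 3
        have := Nat.le_of_dvd (by norm_num) hdvd
        omega
      have ha1 := cube_aux a ha17 hdvd hoddh
      rw [ha, ha1] at hcardG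
      rw [hcardG]
      decide
  · push Not at h7
    have hcases : Fintype.card α = 4 ∨ Fintype.card α = 5 ∨ Fintype.card α = 6 := by omega
    rcases hcases with hN | hN | hN
    · left
      refine ⟨Or.inl hN, ?_⟩
      rw [hN] at hdvd hcardG
      have h1 : Nat.card (stabilizer G x) = 1 := by
        have : (4 - 4).factorial = 1 := by decide
        rw [this] at hdvd
        exact Nat.dvd_one.1 hdvd
      rw [h1] at hcardG
      apply top_of_card
      rw [hcardG, hN]
      decide
    · left
      refine ⟨Or.inr hN, ?_⟩
      rw [hN] at hdvd hcardG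
      have h1 : Nat.card (stabilizer G x) = 1 := by
        have : (5 - 4).factorial = 1 := by decide
        rw [this] at hdvd
        exact Nat.dvd_one.1 hdvd
      rw [h1] at hcardG
      apply top_of_card
      rw [hcardG, hN]
      decide
    · right; left
      refine ⟨Or.inl hN, ?_⟩
      rw [hN] at hdvd hcardG
      have h1 : Nat.card (stabilizer G x) = 1 := by
        have : (6 - 4).factorial = 2 := by decide
        rw [this] at hdvd
        have hle : Nat.card (stabilizer G x) ≤ 2 := Nat.le_of_dvd (by norm_num) hdvd
        omega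
      rw [h1] at hcardG
      apply alt_of_card
      rw [hcardG, hN]
      decide

end Cfsg.Agent.Lib.Helper5.Hall4
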